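import Mathlib
import Cfsg.Prelude.Def_ChevB2

set_option autoImplicit false

/-! Helper lemmas (helper17): the tables of the Chevalley datum of type `B₂`, entry by entry. -/

namespace Cfsg.Agent.H17.B2Tbl

open Cfsg Cfsg.Lie

theorem neg_0 : chevB2.negIdx.getD 0 0 = 7 := by decide
theorem neg'_0 : chevB2.negIdx[0]?.getD 0 = 7 := by decide
theorem neg_1 : chevB2.negIdx.getD 1 0 = 6 := by decide
theorem neg'_1 : chevB2.negIdx[1]?.getD 0 = 6 := by decide
theorem neg_2 : chevB2.negIdx.getD 2 0 = 5 := by decide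
theorem neg'_2 : chevB2.negIdx[2]?.getD 0 = 5 := by decide
theorem neg_3 : chevB2.negIdx.getD 3 0 = 4 := by decide
theorem neg'_3 : chevB2.negIdx[3]?.getD 0 = 4 := by decide
theorem neg_4 : chevB2.negIdx.getD 4 0 = 3 := by decide
theorem neg'_4 : chevB2.negIdx[4]?.getD 0 = 3 := by decide
theorem neg_5 : chevB2.negIdx.getD 5 0 = 2 := by decide
theorem neg'_5 : chevB2.negIdx[5]?.getD 0 = 2 := by decide
theorem neg_6 : chevB2.negIdx.getD 6 0 = 1 := by decide
theorem neg'_6 : chevB2.negIdx[6]?.getD 0 = 1 := by decide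
theorem neg_7 : chevB2.negIdx.getD 7 0 = 0 := by decide
theorem neg'_7 : chevB2.negIdx[7]?.getD 0 = 0 := by decide
theorem cor_0_0 : (chevB2.coroot.getD 0 #[]).getD 0 0 = (-1) := by decide
theorem cor'_0_0 : (chevB2.coroot[0]?.getD #[])[0]?.getD 0 = (-1) := by decide
theorem cor_0_1 : (chevB2.coroot.getD 0 #[]).getD 1 0 = (-1) := by decide
theorem cor'_0_1 : (chevB2.coroot[0]?.getD #[])[1]?.getD 0 = (-1) := by decide
theorem cor_1_0 : (chevB2.coroot.getD 1 #[]).getD 0 0 = (-1) := by decide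
theorem cor'_1_0 : (chevB2.coroot[1]?.getD #[])[0]?.getD 0 = (-1) := by decide
theorem cor_1_1 : (chevB2.coroot.getD 1 #[]).getD 1 0 = (-2) := by decide
theorem cor'_1_1 : (chevB2.coroot[1]?.getD #[])[1]?.getD 0 = (-2) := by decide
theorem cor_2_0 : (chevB2.coroot.getD 2 #[]).getD 0 0 = (-1) := by decide
theorem cor'_2_0 : (chevB2.coroot[2]?.getD #[])[0]?.getD 0 = (-1) := by decide
theorem cor_2_1 : (chevB2.coroot.getD 2 #[]).getD 1 0 = 0 := by decide
theorem cor'_2_1 : (chevB2.coroot[2]?.getD #[])[1]?.getD 0 = 0 := by decide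
theorem cor_3_0 : (chevB2.coroot.getD 3 #[]).getD 0 0 = 0 := by decide
theorem cor'_3_0 : (chevB2.coroot[3]?.getD #[])[0]?.getD 0 = 0 := by decide
theorem cor_3_1 : (chevB2.coroot.getD 3 #[]).getD 1 0 = (-1) := by decide
theorem cor'_3_1 : (chevB2.coroot[3]?.getD #[])[1]?.getD 0 = (-1) := by decide
theorem cor_4_0 : (chevB2.coroot.getD 4 #[]).getD 0 0 = 0 := by decide
theorem cor'_4_0 : (chevB2.coroot[4]?.getD #[])[0]?.getD 0 = 0 := by decide
theorem cor_4_1 : (chevB2.coroot.getD 4 #[]).getD 1 0 = 1 := by decide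
theorem cor'_4_1 : (chevB2.coroot[4]?.getD #[])[1]?.getD 0 = 1 := by decide
theorem cor_5_0 : (chevB2.coroot.getD 5 #[]).getD 0 0 = 1 := by decide
theorem cor'_5_0 : (chevB2.coroot[5]?.getD #[])[0]?.getD 0 = 1 := by decide
theorem cor_5_1 : (chevB2.coroot.getD 5 #[]).getD 1 0 = 0 := by decide
theorem cor'_5_1 : (chevB2.coroot[5]?.getD #[])[1]?.getD 0 = 0 := by decide
theorem cor_6_0 : (chevB2.coroot.getD 6 #[]).getD 0 0 = 1 := by decide
theorem cor'_6_0 : (chevB2.coroot[6]?.getD #[])[0]?.getD 0 = 1 := by decide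
theorem cor_6_1 : (chevB2.coroot.getD 6 #[]).getD 1 0 = 2 := by decide
theorem cor'_6_1 : (chevB2.coroot[6]?.getD #[])[1]?.getD 0 = 2 := by decide
theorem cor_7_0 : (chevB2.coroot.getD 7 #[]).getD 0 0 = 1 := by decide
theorem cor'_7_0 : (chevB2.coroot[7]?.getD #[])[0]?.getD 0 = 1 := by decide
theorem cor_7_1 : (chevB2.coroot.getD 7 #[]).getD 1 0 = 1 := by decide
theorem cor'_7_1 : (chevB2.coroot[7]?.getD #[])[1]?.getD 0 = 1 := by decide
theorem car_0_0 : (chevB2.cartanSR.getD 0 #[]).getD 0 0 = (-2) := by decide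
theorem car'_0_0 : (chevB2.cartanSR[0]?.getD #[])[0]?.getD 0 = (-2) := by decide
theorem car_0_1 : (chevB2.cartanSR.getD 0 #[]).getD 1 0 = 0 := by decide
theorem car'_0_1 : (chevB2.cartanSR[0]?.getD #[])[1]?.getD 0 = 0 := by decide
theorem car_0_2 : (chevB2.cartanSR.getD 0 #[]).getD 2 0 = (-2) := by decide
theorem car'_0_2 : (chevB2.cartanSR[0]?.getD #[])[2]?.getD 0 = (-2) := by decide
theorem car_0_3 : (chevB2.cartanSR.getD 0 #[]).getD 3 0 = 2 := by decide
theorem car'_0_3 : (chevB2.cartanSR[0]?.getD #[])[3]?.getD 0 = 2 := by decide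
theorem car_0_4 : (chevB2.cartanSR.getD 0 #[]).getD 4 0 = (-2) := by decide
theorem car'_0_4 : (chevB2.cartanSR[0]?.getD #[])[4]?.getD 0 = (-2) := by decide
theorem car_0_5 : (chevB2.cartanSR.getD 0 #[]).getD 5 0 = 2 := by decide
theorem car'_0_5 : (chevB2.cartanSR[0]?.getD #[])[5]?.getD 0 = 2 := by decide
theorem car_0_6 : (chevB2.cartanSR.getD 0 #[]).getD 6 0 = 0 := by decide
theorem car'_0_6 : (chevB2.cartanSR[0]?.getD #[])[6]?.getD 0 = 0 := by decide
theorem car_0_7 : (chevB2.cartanSR.getD 0 #[]).getD 7 0 = 2 := by decide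
theorem car'_0_7 : (chevB2.cartanSR[0]?.getD #[])[7]?.getD 0 = 2 := by decide
theorem car_1_0 : (chevB2.cartanSR.getD 1 #[]).getD 0 0 = 0 := by decide
theorem car'_1_0 : (chevB2.cartanSR[1]?.getD #[])[0]?.getD 0 = 0 := by decide
theorem car_1_1 : (chevB2.cartanSR.getD 1 #[]).getD 1 0 = (-1) := by decide
theorem car'_1_1 : (chevB2.cartanSR[1]?.getD #[])[1]?.getD 0 = (-1) := by decide
theorem car_1_2 : (chevB2.cartanSR.getD 1 #[]).getD 2 0 = 1 := by decide
theorem car'_1_2 : (chevB2.cartanSR[1]?.getD #[])[2]?.getD 0 = 1 := by decide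
theorem car_1_3 : (chevB2.cartanSR.getD 1 #[]).getD 3 0 = (-2) := by decide
theorem car'_1_3 : (chevB2.cartanSR[1]?.getD #[])[3]?.getD 0 = (-2) := by decide
theorem car_1_4 : (chevB2.cartanSR.getD 1 #[]).getD 4 0 = 2 := by decide
theorem car'_1_4 : (chevB2.cartanSR[1]?.getD #[])[4]?.getD 0 = 2 := by decide
theorem car_1_5 : (chevB2.cartanSR.getD 1 #[]).getD 5 0 = (-1) := by decide
theorem car'_1_5 : (chevB2.cartanSR[1]?.getD #[])[5]?.getD 0 = (-1) := by decide
theorem car_1_6 : (chevB2.cartanSR.getD 1 #[]).getD 6 0 = 1 := by decide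
theorem car'_1_6 : (chevB2.cartanSR[1]?.getD #[])[6]?.getD 0 = 1 := by decide
theorem car_1_7 : (chevB2.cartanSR.getD 1 #[]).getD 7 0 = 0 := by decide
theorem car'_1_7 : (chevB2.cartanSR[1]?.getD #[])[7]?.getD 0 = 0 := by decide
theorem cc_0_1_0 : chevB2.chainCoeff 0 1 0 = [] := by decide
theorem cc_0_1_1 : chevB2.chainCoeff 0 1 1 = [] := by decide
theorem cc_0_1_2 : chevB2.chainCoeff 0 1 2 = [] := by decide
theorem cc_0_1_3 : chevB2.chainCoeff 0 1 3 = [] := by decide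
theorem cc_0_1_4 : chevB2.chainCoeff 0 1 4 = [] := by decide
theorem cc_0_1_5 : chevB2.chainCoeff 0 1 5 = [] := by decide
theorem cc_0_1_6 : chevB2.chainCoeff 0 1 6 = [] := by decide
theorem cc_0_1_7 : chevB2.chainCoeff 0 1 7 = [] := by decide
theorem cc_0_2_0 : chevB2.chainCoeff 0 2 0 = [] := by decide
theorem cc_0_2_1 : chevB2.chainCoeff 0 2 1 = [] := by decide
theorem cc_0_2_2 : chevB2.chainCoeff 0 2 2 = [] := by decide
theorem cc_0_2_3 : chevB2.chainCoeff 0 2 3 = [] := by decide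
theorem cc_0_2_4 : chevB2.chainCoeff 0 2 4 = [] := by decide
theorem cc_0_2_5 : chevB2.chainCoeff 0 2 5 = [] := by decide
theorem cc_0_2_6 : chevB2.chainCoeff 0 2 6 = [] := by decide
theorem cc_0_2_7 : chevB2.chainCoeff 0 2 7 = [] := by decide
theorem cc_0_3_0 : chevB2.chainCoeff 0 3 0 = [] := by decide
theorem cc_0_3_1 : chevB2.chainCoeff 0 3 1 = [] := by decide
theorem cc_0_3_2 : chevB2.chainCoeff 0 3 2 = [] := by decide
theorem cc_0_3_3 : chevB2.chainCoeff 0 3 3 = [] := by decide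
theorem cc_0_3_4 : chevB2.chainCoeff 0 3 4 = [] := by decide
theorem cc_0_3_5 : chevB2.chainCoeff 0 3 5 = [] := by decide
theorem cc_0_3_6 : chevB2.chainCoeff 0 3 6 = [] := by decide
theorem cc_0_3_7 : chevB2.chainCoeff 0 3 7 = [] := by decide
theorem cc_0_4_0 : chevB2.chainCoeff 0 4 0 = [] := by decide
theorem cc_0_4_1 : chevB2.chainCoeff 0 4 1 = [] := by decide
theorem cc_0_4_2 : chevB2.chainCoeff 0 4 2 = [] := by decide
theorem cc_0_4_3 : chevB2.chainCoeff 0 4 3 = [] := by decide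
theorem cc_0_4_4 : chevB2.chainCoeff 0 4 4 = [] := by decide
theorem cc_0_4_5 : chevB2.chainCoeff 0 4 5 = [] := by decide
theorem cc_0_4_6 : chevB2.chainCoeff 0 4 6 = [] := by decide
theorem cc_0_4_7 : chevB2.chainCoeff 0 4 7 = [] := by decide
theorem cc_0_5_0 : chevB2.chainCoeff 0 5 0 = [] := by decide
theorem cc_0_5_1 : chevB2.chainCoeff 0 5 1 = [(1, 1)] := by decide
theorem cc_0_5_2 : chevB2.chainCoeff 0 5 2 = [] := by decide
theorem cc_0_5_3 : chevB2.chainCoeff 0 5 3 = [] := by decide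
theorem cc_0_5_4 : chevB2.chainCoeff 0 5 4 = [] := by decide
theorem cc_0_5_5 : chevB2.chainCoeff 0 5 5 = [] := by decide
theorem cc_0_5_6 : chevB2.chainCoeff 0 5 6 = [] := by decide
theorem cc_0_5_7 : chevB2.chainCoeff 0 5 7 = [] := by decide
theorem cc_0_6_0 : chevB2.chainCoeff 0 6 0 = [] := by decide
theorem cc_0_6_1 : chevB2.chainCoeff 0 6 1 = [] := by decide
theorem cc_0_6_2 : chevB2.chainCoeff 0 6 2 = [(1, (-1))] := by decide
theorem cc_0_6_3 : chevB2.chainCoeff 0 6 3 = [] := by decide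
theorem cc_0_6_4 : chevB2.chainCoeff 0 6 4 = [] := by decide
theorem cc_0_6_5 : chevB2.chainCoeff 0 6 5 = [] := by decide
theorem cc_0_6_6 : chevB2.chainCoeff 0 6 6 = [] := by decide
theorem cc_0_6_7 : chevB2.chainCoeff 0 6 7 = [] := by decide
theorem cc_1_0_0 : chevB2.chainCoeff 1 0 0 = [] := by decide
theorem cc_1_0_1 : chevB2.chainCoeff 1 0 1 = [] := by decide
theorem cc_1_0_2 : chevB2.chainCoeff 1 0 2 = [] := by decide
theorem cc_1_0_3 : chevB2.chainCoeff 1 0 3 = [] := by decide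
theorem cc_1_0_4 : chevB2.chainCoeff 1 0 4 = [] := by decide
theorem cc_1_0_5 : chevB2.chainCoeff 1 0 5 = [] := by decide
theorem cc_1_0_6 : chevB2.chainCoeff 1 0 6 = [] := by decide
theorem cc_1_0_7 : chevB2.chainCoeff 1 0 7 = [] := by decide
theorem cc_1_2_0 : chevB2.chainCoeff 1 2 0 = [(1, 2)] := by decide
theorem cc_1_2_1 : chevB2.chainCoeff 1 2 1 = [] := by decide
theorem cc_1_2_2 : chevB2.chainCoeff 1 2 2 = [] := by decide
theorem cc_1_2_3 : chevB2.chainCoeff 1 2 3 = [] := by decide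
theorem cc_1_2_4 : chevB2.chainCoeff 1 2 4 = [] := by decide
theorem cc_1_2_5 : chevB2.chainCoeff 1 2 5 = [] := by decide
theorem cc_1_2_6 : chevB2.chainCoeff 1 2 6 = [] := by decide
theorem cc_1_2_7 : chevB2.chainCoeff 1 2 7 = [] := by decide
theorem cc_1_3_0 : chevB2.chainCoeff 1 3 0 = [] := by decide
theorem cc_1_3_1 : chevB2.chainCoeff 1 3 1 = [] := by decide
theorem cc_1_3_2 : chevB2.chainCoeff 1 3 2 = [] := by decide
theorem cc_1_3_3 : chevB2.chainCoeff 1 3 3 = [] := by decide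
theorem cc_1_3_4 : chevB2.chainCoeff 1 3 4 = [] := by decide
theorem cc_1_3_5 : chevB2.chainCoeff 1 3 5 = [] := by decide
theorem cc_1_3_6 : chevB2.chainCoeff 1 3 6 = [] := by decide
theorem cc_1_3_7 : chevB2.chainCoeff 1 3 7 = [] := by decide
theorem cc_1_4_0 : chevB2.chainCoeff 1 4 0 = [(2, 1)] := by decide
theorem cc_1_4_1 : chevB2.chainCoeff 1 4 1 = [] := by decide
theorem cc_1_4_2 : chevB2.chainCoeff 1 4 2 = [(1, 1)] := by decide
theorem cc_1_4_3 : chevB2.chainCoeff 1 4 3 = [] := by decide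
theorem cc_1_4_4 : chevB2.chainCoeff 1 4 4 = [] := by decide
theorem cc_1_4_5 : chevB2.chainCoeff 1 4 5 = [] := by decide
theorem cc_1_4_6 : chevB2.chainCoeff 1 4 6 = [] := by decide
theorem cc_1_4_7 : chevB2.chainCoeff 1 4 7 = [] := by decide
theorem cc_1_5_0 : chevB2.chainCoeff 1 5 0 = [] := by decide
theorem cc_1_5_1 : chevB2.chainCoeff 1 5 1 = [] := by decide
theorem cc_1_5_2 : chevB2.chainCoeff 1 5 2 = [] := by decide
theorem cc_1_5_3 : chevB2.chainCoeff 1 5 3 = [(1, (-2))] := by decide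
theorem cc_1_5_4 : chevB2.chainCoeff 1 5 4 = [] := by decide
theorem cc_1_5_5 : chevB2.chainCoeff 1 5 5 = [] := by decide
theorem cc_1_5_6 : chevB2.chainCoeff 1 5 6 = [] := by decide
theorem cc_1_5_7 : chevB2.chainCoeff 1 5 7 = [] := by decide
theorem cc_1_7_0 : chevB2.chainCoeff 1 7 0 = [] := by decide
theorem cc_1_7_1 : chevB2.chainCoeff 1 7 1 = [] := by decide
theorem cc_1_7_2 : chevB2.chainCoeff 1 7 2 = [] := by decide
theorem cc_1_7_3 : chevB2.chainCoeff 1 7 3 = [(2, 1)] := by decide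
theorem cc_1_7_4 : chevB2.chainCoeff 1 7 4 = [] := by decide
theorem cc_1_7_5 : chevB2.chainCoeff 1 7 5 = [(1, (-1))] := by decide
theorem cc_1_7_6 : chevB2.chainCoeff 1 7 6 = [] := by decide
theorem cc_1_7_7 : chevB2.chainCoeff 1 7 7 = [] := by decide
theorem cc_2_0_0 : chevB2.chainCoeff 2 0 0 = [] := by decide
theorem cc_2_0_1 : chevB2.chainCoeff 2 0 1 = [] := by decide
theorem cc_2_0_2 : chevB2.chainCoeff 2 0 2 = [] := by decide
theorem cc_2_0_3 : chevB2.chainCoeff 2 0 3 = [] := by decide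
theorem cc_2_0_4 : chevB2.chainCoeff 2 0 4 = [] := by decide
theorem cc_2_0_5 : chevB2.chainCoeff 2 0 5 = [] := by decide
theorem cc_2_0_6 : chevB2.chainCoeff 2 0 6 = [] := by decide
theorem cc_2_0_7 : chevB2.chainCoeff 2 0 7 = [] := by decide
theorem cc_2_1_0 : chevB2.chainCoeff 2 1 0 = [(1, (-2))] := by decide
theorem cc_2_1_1 : chevB2.chainCoeff 2 1 1 = [] := by decide
theorem cc_2_1_2 : chevB2.chainCoeff 2 1 2 = [] := by decide
theorem cc_2_1_3 : chevB2.chainCoeff 2 1 3 = [] := by decide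
theorem cc_2_1_4 : chevB2.chainCoeff 2 1 4 = [] := by decide
theorem cc_2_1_5 : chevB2.chainCoeff 2 1 5 = [] := by decide
theorem cc_2_1_6 : chevB2.chainCoeff 2 1 6 = [] := by decide
theorem cc_2_1_7 : chevB2.chainCoeff 2 1 7 = [] := by decide
theorem cc_2_3_0 : chevB2.chainCoeff 2 3 0 = [(2, (-1))] := by decide
theorem cc_2_3_1 : chevB2.chainCoeff 2 3 1 = [(1, 1)] := by decide
theorem cc_2_3_2 : chevB2.chainCoeff 2 3 2 = [] := by decide
theorem cc_2_3_3 : chevB2.chainCoeff 2 3 3 = [] := by decide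
theorem cc_2_3_4 : chevB2.chainCoeff 2 3 4 = [] := by decide
theorem cc_2_3_5 : chevB2.chainCoeff 2 3 5 = [] := by decide
theorem cc_2_3_6 : chevB2.chainCoeff 2 3 6 = [] := by decide
theorem cc_2_3_7 : chevB2.chainCoeff 2 3 7 = [] := by decide
theorem cc_2_4_0 : chevB2.chainCoeff 2 4 0 = [] := by decide
theorem cc_2_4_1 : chevB2.chainCoeff 2 4 1 = [] := by decide
theorem cc_2_4_2 : chevB2.chainCoeff 2 4 2 = [] := by decide
theorem cc_2_4_3 : chevB2.chainCoeff 2 4 3 = [] := by decide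
theorem cc_2_4_4 : chevB2.chainCoeff 2 4 4 = [] := by decide
theorem cc_2_4_5 : chevB2.chainCoeff 2 4 5 = [] := by decide
theorem cc_2_4_6 : chevB2.chainCoeff 2 4 6 = [] := by decide
theorem cc_2_4_7 : chevB2.chainCoeff 2 4 7 = [] := by decide
theorem cc_2_6_0 : chevB2.chainCoeff 2 6 0 = [] := by decide
theorem cc_2_6_1 : chevB2.chainCoeff 2 6 1 = [] := by decide
theorem cc_2_6_2 : chevB2.chainCoeff 2 6 2 = [] := by decide
theorem cc_2_6_3 : chevB2.chainCoeff 2 6 3 = [] := by decide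
theorem cc_2_6_4 : chevB2.chainCoeff 2 6 4 = [(1, (-2))] := by decide
theorem cc_2_6_5 : chevB2.chainCoeff 2 6 5 = [] := by decide
theorem cc_2_6_6 : chevB2.chainCoeff 2 6 6 = [] := by decide
theorem cc_2_6_7 : chevB2.chainCoeff 2 6 7 = [] := by decide
theorem cc_2_7_0 : chevB2.chainCoeff 2 7 0 = [] := by decide
theorem cc_2_7_1 : chevB2.chainCoeff 2 7 1 = [] := by decide
theorem cc_2_7_2 : chevB2.chainCoeff 2 7 2 = [] := by decide
theorem cc_2_7_3 : chevB2.chainCoeff 2 7 3 = [] := by decide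
theorem cc_2_7_4 : chevB2.chainCoeff 2 7 4 = [(2, (-1))] := by decide
theorem cc_2_7_5 : chevB2.chainCoeff 2 7 5 = [] := by decide
theorem cc_2_7_6 : chevB2.chainCoeff 2 7 6 = [(1, 1)] := by decide
theorem cc_2_7_7 : chevB2.chainCoeff 2 7 7 = [] := by decide
theorem cc_3_0_0 : chevB2.chainCoeff 3 0 0 = [] := by decide
theorem cc_3_0_1 : chevB2.chainCoeff 3 0 1 = [] := by decide
theorem cc_3_0_2 : chevB2.chainCoeff 3 0 2 = [] := by decide
theorem cc_3_0_3 : chevB2.chainCoeff 3 0 3 = [] := by decide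
theorem cc_3_0_4 : chevB2.chainCoeff 3 0 4 = [] := by decide
theorem cc_3_0_5 : chevB2.chainCoeff 3 0 5 = [] := by decide
theorem cc_3_0_6 : chevB2.chainCoeff 3 0 6 = [] := by decide
theorem cc_3_0_7 : chevB2.chainCoeff 3 0 7 = [] := by decide
theorem cc_3_1_0 : chevB2.chainCoeff 3 1 0 = [] := by decide
theorem cc_3_1_1 : chevB2.chainCoeff 3 1 1 = [] := by decide
theorem cc_3_1_2 : chevB2.chainCoeff 3 1 2 = [] := by decide
theorem cc_3_1_3 : chevB2.chainCoeff 3 1 3 = [] := by decide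
theorem cc_3_1_4 : chevB2.chainCoeff 3 1 4 = [] := by decide
theorem cc_3_1_5 : chevB2.chainCoeff 3 1 5 = [] := by decide
theorem cc_3_1_6 : chevB2.chainCoeff 3 1 6 = [] := by decide
theorem cc_3_1_7 : chevB2.chainCoeff 3 1 7 = [] := by decide
theorem cc_3_2_0 : chevB2.chainCoeff 3 2 0 = [] := by decide
theorem cc_3_2_1 : chevB2.chainCoeff 3 2 1 = [(1, (-1))] := by decide
theorem cc_3_2_2 : chevB2.chainCoeff 3 2 2 = [] := by decide
theorem cc_3_2_3 : chevB2.chainCoeff 3 2 3 = [] := by decide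
theorem cc_3_2_4 : chevB2.chainCoeff 3 2 4 = [] := by decide
theorem cc_3_2_5 : chevB2.chainCoeff 3 2 5 = [] := by decide
theorem cc_3_2_6 : chevB2.chainCoeff 3 2 6 = [] := by decide
theorem cc_3_2_7 : chevB2.chainCoeff 3 2 7 = [] := by decide
theorem cc_3_5_0 : chevB2.chainCoeff 3 5 0 = [] := by decide
theorem cc_3_5_1 : chevB2.chainCoeff 3 5 1 = [] := by decide
theorem cc_3_5_2 : chevB2.chainCoeff 3 5 2 = [] := by decide
theorem cc_3_5_3 : chevB2.chainCoeff 3 5 3 = [] := by decide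
theorem cc_3_5_4 : chevB2.chainCoeff 3 5 4 = [] := by decide
theorem cc_3_5_5 : chevB2.chainCoeff 3 5 5 = [] := by decide
theorem cc_3_5_6 : chevB2.chainCoeff 3 5 6 = [] := by decide
theorem cc_3_5_7 : chevB2.chainCoeff 3 5 7 = [] := by decide
theorem cc_3_6_0 : chevB2.chainCoeff 3 6 0 = [] := by decide
theorem cc_3_6_1 : chevB2.chainCoeff 3 6 1 = [] := by decide
theorem cc_3_6_2 : chevB2.chainCoeff 3 6 2 = [] := by decide
theorem cc_3_6_3 : chevB2.chainCoeff 3 6 3 = [] := by decide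
theorem cc_3_6_4 : chevB2.chainCoeff 3 6 4 = [] := by decide
theorem cc_3_6_5 : chevB2.chainCoeff 3 6 5 = [(1, 1)] := by decide
theorem cc_3_6_6 : chevB2.chainCoeff 3 6 6 = [] := by decide
theorem cc_3_6_7 : chevB2.chainCoeff 3 6 7 = [] := by decide
theorem cc_3_7_0 : chevB2.chainCoeff 3 7 0 = [] := by decide
theorem cc_3_7_1 : chevB2.chainCoeff 3 7 1 = [] := by decide
theorem cc_3_7_2 : chevB2.chainCoeff 3 7 2 = [] := by decide
theorem cc_3_7_3 : chevB2.chainCoeff 3 7 3 = [] := by decide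
theorem cc_3_7_4 : chevB2.chainCoeff 3 7 4 = [] := by decide
theorem cc_3_7_5 : chevB2.chainCoeff 3 7 5 = [] := by decide
theorem cc_3_7_6 : chevB2.chainCoeff 3 7 6 = [] := by decide
theorem cc_3_7_7 : chevB2.chainCoeff 3 7 7 = [] := by decide
theorem cc_4_0_0 : chevB2.chainCoeff 4 0 0 = [] := by decide
theorem cc_4_0_1 : chevB2.chainCoeff 4 0 1 = [] := by decide
theorem cc_4_0_2 : chevB2.chainCoeff 4 0 2 = [] := by decide
theorem cc_4_0_3 : chevB2.chainCoeff 4 0 3 = [] := by decide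
theorem cc_4_0_4 : chevB2.chainCoeff 4 0 4 = [] := by decide
theorem cc_4_0_5 : chevB2.chainCoeff 4 0 5 = [] := by decide
theorem cc_4_0_6 : chevB2.chainCoeff 4 0 6 = [] := by decide
theorem cc_4_0_7 : chevB2.chainCoeff 4 0 7 = [] := by decide
theorem cc_4_1_0 : chevB2.chainCoeff 4 1 0 = [] := by decide
theorem cc_4_1_1 : chevB2.chainCoeff 4 1 1 = [] := by decide
theorem cc_4_1_2 : chevB2.chainCoeff 4 1 2 = [(1, (-1))] := by decide
theorem cc_4_1_3 : chevB2.chainCoeff 4 1 3 = [] := by decide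
theorem cc_4_1_4 : chevB2.chainCoeff 4 1 4 = [] := by decide
theorem cc_4_1_5 : chevB2.chainCoeff 4 1 5 = [] := by decide
theorem cc_4_1_6 : chevB2.chainCoeff 4 1 6 = [] := by decide
theorem cc_4_1_7 : chevB2.chainCoeff 4 1 7 = [] := by decide
theorem cc_4_2_0 : chevB2.chainCoeff 4 2 0 = [] := by decide
theorem cc_4_2_1 : chevB2.chainCoeff 4 2 1 = [] := by decide
theorem cc_4_2_2 : chevB2.chainCoeff 4 2 2 = [] := by decide
theorem cc_4_2_3 : chevB2.chainCoeff 4 2 3 = [] := by decide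
theorem cc_4_2_4 : chevB2.chainCoeff 4 2 4 = [] := by decide
theorem cc_4_2_5 : chevB2.chainCoeff 4 2 5 = [] := by decide
theorem cc_4_2_6 : chevB2.chainCoeff 4 2 6 = [] := by decide
theorem cc_4_2_7 : chevB2.chainCoeff 4 2 7 = [] := by decide
theorem cc_4_5_0 : chevB2.chainCoeff 4 5 0 = [] := by decide
theorem cc_4_5_1 : chevB2.chainCoeff 4 5 1 = [] := by decide
theorem cc_4_5_2 : chevB2.chainCoeff 4 5 2 = [] := by decide
theorem cc_4_5_3 : chevB2.chainCoeff 4 5 3 = [] := by decide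
theorem cc_4_5_4 : chevB2.chainCoeff 4 5 4 = [] := by decide
theorem cc_4_5_5 : chevB2.chainCoeff 4 5 5 = [] := by decide
theorem cc_4_5_6 : chevB2.chainCoeff 4 5 6 = [(1, 1)] := by decide
theorem cc_4_5_7 : chevB2.chainCoeff 4 5 7 = [] := by decide
theorem cc_4_6_0 : chevB2.chainCoeff 4 6 0 = [] := by decide
theorem cc_4_6_1 : chevB2.chainCoeff 4 6 1 = [] := by decide
theorem cc_4_6_2 : chevB2.chainCoeff 4 6 2 = [] := by decide
theorem cc_4_6_3 : chevB2.chainCoeff 4 6 3 = [] := by decide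
theorem cc_4_6_4 : chevB2.chainCoeff 4 6 4 = [] := by decide
theorem cc_4_6_5 : chevB2.chainCoeff 4 6 5 = [] := by decide
theorem cc_4_6_6 : chevB2.chainCoeff 4 6 6 = [] := by decide
theorem cc_4_6_7 : chevB2.chainCoeff 4 6 7 = [] := by decide
theorem cc_4_7_0 : chevB2.chainCoeff 4 7 0 = [] := by decide
theorem cc_4_7_1 : chevB2.chainCoeff 4 7 1 = [] := by decide
theorem cc_4_7_2 : chevB2.chainCoeff 4 7 2 = [] := by decide
theorem cc_4_7_3 : chevB2.chainCoeff 4 7 3 = [] := by decide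
theorem cc_4_7_4 : chevB2.chainCoeff 4 7 4 = [] := by decide
theorem cc_4_7_5 : chevB2.chainCoeff 4 7 5 = [] := by decide
theorem cc_4_7_6 : chevB2.chainCoeff 4 7 6 = [] := by decide
theorem cc_4_7_7 : chevB2.chainCoeff 4 7 7 = [] := by decide
theorem cc_5_0_0 : chevB2.chainCoeff 5 0 0 = [] := by decide
theorem cc_5_0_1 : chevB2.chainCoeff 5 0 1 = [(1, (-1))] := by decide
theorem cc_5_0_2 : chevB2.chainCoeff 5 0 2 = [] := by decide
theorem cc_5_0_3 : chevB2.chainCoeff 5 0 3 = [(2, (-1))] := by decide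
theorem cc_5_0_4 : chevB2.chainCoeff 5 0 4 = [] := by decide
theorem cc_5_0_5 : chevB2.chainCoeff 5 0 5 = [] := by decide
theorem cc_5_0_6 : chevB2.chainCoeff 5 0 6 = [] := by decide
theorem cc_5_0_7 : chevB2.chainCoeff 5 0 7 = [] := by decide
theorem cc_5_1_0 : chevB2.chainCoeff 5 1 0 = [] := by decide
theorem cc_5_1_1 : chevB2.chainCoeff 5 1 1 = [] := by decide
theorem cc_5_1_2 : chevB2.chainCoeff 5 1 2 = [] := by decide
theorem cc_5_1_3 : chevB2.chainCoeff 5 1 3 = [(1, 2)] := by decide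
theorem cc_5_1_4 : chevB2.chainCoeff 5 1 4 = [] := by decide
theorem cc_5_1_5 : chevB2.chainCoeff 5 1 5 = [] := by decide
theorem cc_5_1_6 : chevB2.chainCoeff 5 1 6 = [] := by decide
theorem cc_5_1_7 : chevB2.chainCoeff 5 1 7 = [] := by decide
theorem cc_5_3_0 : chevB2.chainCoeff 5 3 0 = [] := by decide
theorem cc_5_3_1 : chevB2.chainCoeff 5 3 1 = [] := by decide
theorem cc_5_3_2 : chevB2.chainCoeff 5 3 2 = [] := by decide
theorem cc_5_3_3 : chevB2.chainCoeff 5 3 3 = [] := by decide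
theorem cc_5_3_4 : chevB2.chainCoeff 5 3 4 = [] := by decide
theorem cc_5_3_5 : chevB2.chainCoeff 5 3 5 = [] := by decide
theorem cc_5_3_6 : chevB2.chainCoeff 5 3 6 = [] := by decide
theorem cc_5_3_7 : chevB2.chainCoeff 5 3 7 = [] := by decide
theorem cc_5_4_0 : chevB2.chainCoeff 5 4 0 = [] := by decide
theorem cc_5_4_1 : chevB2.chainCoeff 5 4 1 = [] := by decide
theorem cc_5_4_2 : chevB2.chainCoeff 5 4 2 = [] := by decide
theorem cc_5_4_3 : chevB2.chainCoeff 5 4 3 = [] := by decide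
theorem cc_5_4_4 : chevB2.chainCoeff 5 4 4 = [] := by decide
theorem cc_5_4_5 : chevB2.chainCoeff 5 4 5 = [] := by decide
theorem cc_5_4_6 : chevB2.chainCoeff 5 4 6 = [(1, (-1))] := by decide
theorem cc_5_4_7 : chevB2.chainCoeff 5 4 7 = [(2, (-1))] := by decide
theorem cc_5_6_0 : chevB2.chainCoeff 5 6 0 = [] := by decide
theorem cc_5_6_1 : chevB2.chainCoeff 5 6 1 = [] := by decide
theorem cc_5_6_2 : chevB2.chainCoeff 5 6 2 = [] := by decide
theorem cc_5_6_3 : chevB2.chainCoeff 5 6 3 = [] := by decide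
theorem cc_5_6_4 : chevB2.chainCoeff 5 6 4 = [] := by decide
theorem cc_5_6_5 : chevB2.chainCoeff 5 6 5 = [] := by decide
theorem cc_5_6_6 : chevB2.chainCoeff 5 6 6 = [] := by decide
theorem cc_5_6_7 : chevB2.chainCoeff 5 6 7 = [(1, 2)] := by decide
theorem cc_5_7_0 : chevB2.chainCoeff 5 7 0 = [] := by decide
theorem cc_5_7_1 : chevB2.chainCoeff 5 7 1 = [] := by decide
theorem cc_5_7_2 : chevB2.chainCoeff 5 7 2 = [] := by decide
theorem cc_5_7_3 : chevB2.chainCoeff 5 7 3 = [] := by decide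
theorem cc_5_7_4 : chevB2.chainCoeff 5 7 4 = [] := by decide
theorem cc_5_7_5 : chevB2.chainCoeff 5 7 5 = [] := by decide
theorem cc_5_7_6 : chevB2.chainCoeff 5 7 6 = [] := by decide
theorem cc_5_7_7 : chevB2.chainCoeff 5 7 7 = [] := by decide
theorem cc_6_0_0 : chevB2.chainCoeff 6 0 0 = [] := by decide
theorem cc_6_0_1 : chevB2.chainCoeff 6 0 1 = [] := by decide
theorem cc_6_0_2 : chevB2.chainCoeff 6 0 2 = [(1, 1)] := by decide
theorem cc_6_0_3 : chevB2.chainCoeff 6 0 3 = [] := by decide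
theorem cc_6_0_4 : chevB2.chainCoeff 6 0 4 = [(2, 1)] := by decide
theorem cc_6_0_5 : chevB2.chainCoeff 6 0 5 = [] := by decide
theorem cc_6_0_6 : chevB2.chainCoeff 6 0 6 = [] := by decide
theorem cc_6_0_7 : chevB2.chainCoeff 6 0 7 = [] := by decide
theorem cc_6_2_0 : chevB2.chainCoeff 6 2 0 = [] := by decide
theorem cc_6_2_1 : chevB2.chainCoeff 6 2 1 = [] := by decide
theorem cc_6_2_2 : chevB2.chainCoeff 6 2 2 = [] := by decide
theorem cc_6_2_3 : chevB2.chainCoeff 6 2 3 = [] := by decide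
theorem cc_6_2_4 : chevB2.chainCoeff 6 2 4 = [(1, 2)] := by decide
theorem cc_6_2_5 : chevB2.chainCoeff 6 2 5 = [] := by decide
theorem cc_6_2_6 : chevB2.chainCoeff 6 2 6 = [] := by decide
theorem cc_6_2_7 : chevB2.chainCoeff 6 2 7 = [] := by decide
theorem cc_6_3_0 : chevB2.chainCoeff 6 3 0 = [] := by decide
theorem cc_6_3_1 : chevB2.chainCoeff 6 3 1 = [] := by decide
theorem cc_6_3_2 : chevB2.chainCoeff 6 3 2 = [] := by decide
theorem cc_6_3_3 : chevB2.chainCoeff 6 3 3 = [] := by decide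
theorem cc_6_3_4 : chevB2.chainCoeff 6 3 4 = [] := by decide
theorem cc_6_3_5 : chevB2.chainCoeff 6 3 5 = [(1, (-1))] := by decide
theorem cc_6_3_6 : chevB2.chainCoeff 6 3 6 = [] := by decide
theorem cc_6_3_7 : chevB2.chainCoeff 6 3 7 = [(2, 1)] := by decide
theorem cc_6_4_0 : chevB2.chainCoeff 6 4 0 = [] := by decide
theorem cc_6_4_1 : chevB2.chainCoeff 6 4 1 = [] := by decide
theorem cc_6_4_2 : chevB2.chainCoeff 6 4 2 = [] := by decide
theorem cc_6_4_3 : chevB2.chainCoeff 6 4 3 = [] := by decide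
theorem cc_6_4_4 : chevB2.chainCoeff 6 4 4 = [] := by decide
theorem cc_6_4_5 : chevB2.chainCoeff 6 4 5 = [] := by decide
theorem cc_6_4_6 : chevB2.chainCoeff 6 4 6 = [] := by decide
theorem cc_6_4_7 : chevB2.chainCoeff 6 4 7 = [] := by decide
theorem cc_6_5_0 : chevB2.chainCoeff 6 5 0 = [] := by decide
theorem cc_6_5_1 : chevB2.chainCoeff 6 5 1 = [] := by decide
theorem cc_6_5_2 : chevB2.chainCoeff 6 5 2 = [] := by decide
theorem cc_6_5_3 : chevB2.chainCoeff 6 5 3 = [] := by decide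
theorem cc_6_5_4 : chevB2.chainCoeff 6 5 4 = [] := by decide
theorem cc_6_5_5 : chevB2.chainCoeff 6 5 5 = [] := by decide
theorem cc_6_5_6 : chevB2.chainCoeff 6 5 6 = [] := by decide
theorem cc_6_5_7 : chevB2.chainCoeff 6 5 7 = [(1, (-2))] := by decide
theorem cc_6_7_0 : chevB2.chainCoeff 6 7 0 = [] := by decide
theorem cc_6_7_1 : chevB2.chainCoeff 6 7 1 = [] := by decide
theorem cc_6_7_2 : chevB2.chainCoeff 6 7 2 = [] := by decide
theorem cc_6_7_3 : chevB2.chainCoeff 6 7 3 = [] := by decide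
theorem cc_6_7_4 : chevB2.chainCoeff 6 7 4 = [] := by decide
theorem cc_6_7_5 : chevB2.chainCoeff 6 7 5 = [] := by decide
theorem cc_6_7_6 : chevB2.chainCoeff 6 7 6 = [] := by decide
theorem cc_6_7_7 : chevB2.chainCoeff 6 7 7 = [] := by decide
theorem cc_7_1_0 : chevB2.chainCoeff 7 1 0 = [] := by decide
theorem cc_7_1_1 : chevB2.chainCoeff 7 1 1 = [] := by decide
theorem cc_7_1_2 : chevB2.chainCoeff 7 1 2 = [] := by decide
theorem cc_7_1_3 : chevB2.chainCoeff 7 1 3 = [] := by decide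
theorem cc_7_1_4 : chevB2.chainCoeff 7 1 4 = [] := by decide
theorem cc_7_1_5 : chevB2.chainCoeff 7 1 5 = [(1, 1)] := by decide
theorem cc_7_1_6 : chevB2.chainCoeff 7 1 6 = [] := by decide
theorem cc_7_1_7 : chevB2.chainCoeff 7 1 7 = [] := by decide
theorem cc_7_2_0 : chevB2.chainCoeff 7 2 0 = [] := by decide
theorem cc_7_2_1 : chevB2.chainCoeff 7 2 1 = [] := by decide
theorem cc_7_2_2 : chevB2.chainCoeff 7 2 2 = [] := by decide
theorem cc_7_2_3 : chevB2.chainCoeff 7 2 3 = [] := by decide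
theorem cc_7_2_4 : chevB2.chainCoeff 7 2 4 = [] := by decide
theorem cc_7_2_5 : chevB2.chainCoeff 7 2 5 = [] := by decide
theorem cc_7_2_6 : chevB2.chainCoeff 7 2 6 = [(1, (-1))] := by decide
theorem cc_7_2_7 : chevB2.chainCoeff 7 2 7 = [] := by decide
theorem cc_7_3_0 : chevB2.chainCoeff 7 3 0 = [] := by decide
theorem cc_7_3_1 : chevB2.chainCoeff 7 3 1 = [] := by decide
theorem cc_7_3_2 : chevB2.chainCoeff 7 3 2 = [] := by decide
theorem cc_7_3_3 : chevB2.chainCoeff 7 3 3 = [] := by decide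
theorem cc_7_3_4 : chevB2.chainCoeff 7 3 4 = [] := by decide
theorem cc_7_3_5 : chevB2.chainCoeff 7 3 5 = [] := by decide
theorem cc_7_3_6 : chevB2.chainCoeff 7 3 6 = [] := by decide
theorem cc_7_3_7 : chevB2.chainCoeff 7 3 7 = [] := by decide
theorem cc_7_4_0 : chevB2.chainCoeff 7 4 0 = [] := by decide
theorem cc_7_4_1 : chevB2.chainCoeff 7 4 1 = [] := by decide
theorem cc_7_4_2 : chevB2.chainCoeff 7 4 2 = [] := by decide
theorem cc_7_4_3 : chevB2.chainCoeff 7 4 3 = [] := by decide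
theorem cc_7_4_4 : chevB2.chainCoeff 7 4 4 = [] := by decide
theorem cc_7_4_5 : chevB2.chainCoeff 7 4 5 = [] := by decide
theorem cc_7_4_6 : chevB2.chainCoeff 7 4 6 = [] := by decide
theorem cc_7_4_7 : chevB2.chainCoeff 7 4 7 = [] := by decide
theorem cc_7_5_0 : chevB2.chainCoeff 7 5 0 = [] := by decide
theorem cc_7_5_1 : chevB2.chainCoeff 7 5 1 = [] := by decide
theorem cc_7_5_2 : chevB2.chainCoeff 7 5 2 = [] := by decide
theorem cc_7_5_3 : chevB2.chainCoeff 7 5 3 = [] := by decide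
theorem cc_7_5_4 : chevB2.chainCoeff 7 5 4 = [] := by decide
theorem cc_7_5_5 : chevB2.chainCoeff 7 5 5 = [] := by decide
theorem cc_7_5_6 : chevB2.chainCoeff 7 5 6 = [] := by decide
theorem cc_7_5_7 : chevB2.chainCoeff 7 5 7 = [] := by decide
theorem cc_7_6_0 : chevB2.chainCoeff 7 6 0 = [] := by decide
theorem cc_7_6_1 : chevB2.chainCoeff 7 6 1 = [] := by decide
theorem cc_7_6_2 : chevB2.chainCoeff 7 6 2 = [] := by decide
theorem cc_7_6_3 : chevB2.chainCoeff 7 6 3 = [] := by decide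
theorem cc_7_6_4 : chevB2.chainCoeff 7 6 4 = [] := by decide
theorem cc_7_6_5 : chevB2.chainCoeff 7 6 5 = [] := by decide
theorem cc_7_6_6 : chevB2.chainCoeff 7 6 6 = [] := by decide
theorem cc_7_6_7 : chevB2.chainCoeff 7 6 7 = [] := by decide

end Cfsg.Agent.H17.B2Tbl
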