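import Mathlib
import Cfsg.Prelude.Def_ChevB2
import Cfsg.Agent.H17.B2Adj
import Cfsg.Agent.H17.Symp

set_option autoImplicit false
set_option linter.unusedSimpArgs false

/-! Helper lemmas (helper17): the root elements of the Chevalley group of type `B₂` are the images
of the root elements of `Sp_4(F)` under the adjoint action. -/

namespace Cfsg.Agent.H17
open Matrix Cfsg Cfsg.Lie

variable {F : Type*} [Field F]

/-- The matrix `x_r(t)` of the Chevalley datum of type `B₂`, with its index types made explicit. -/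
def b2X (r : Fin 8) (t : F) : Matrix IB2 IB2 F :=
  Matrix.of fun row col =>
    match col with
    | Sum.inl i =>
      (match row with
       | Sum.inl i' => if i' = i then 1 else 0
       | Sum.inr u => if u = r then - (((chevB2.cartanSR.getD i.val #[]).getD r.val 0 : ℤ) : F) * t else 0)
    | Sum.inr s =>
      if s = r then (match row with | Sum.inr u => if u = r then 1 else 0 | Sum.inl _ => 0)
      else if s.val = chevB2.negIdx.getD r.val 0 then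
        (match row with
         | Sum.inl i => (((chevB2.coroot.getD r.val #[]).getD i.val 0 : ℤ) : F) * t
         | Sum.inr u => if u = s then 1 else if u = r then -(t ^ 2) else 0)
      else
        (match row with
         | Sum.inl _ => 0
         | Sum.inr u => (if u = s then 1 else 0) +
             ((chevB2.chainCoeff r.val s.val u.val).map fun km => ((km.2 : ℤ) : F) * t ^ km.1).sum)

theorem b2X_eq (r : Fin 8) (t : F) : chevB2.xMat F r t = b2X r t := by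
  ext row col
  rcases col with i | s
  · rcases row with i' | u
    · rfl
    · rfl
  · rcases row with i' | u
    · rfl
    · rfl

open B2Tbl in
set_option maxHeartbeats 1000000 in
theorem b2X0_mulVec (t : F) (v : IB2 → F) : b2X 0 t *ᵥ v = b2act (b2u0 t) v := by
  ext (i | i) <;> fin_cases i <;>
  · simp [Matrix.mulVec, dotProduct, Fintype.sum_sum_type, Fin.sum_univ_eight, b2X,
      b2act, b2proj, b2emb, b2u0, Matrix.mul_apply,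
      neg_0, neg'_0, cor_0_0, cor'_0_0, car_0_0, car'_0_0, cor_0_1, cor'_0_1, car_1_0, car'_1_0,
      cc_0_1_0, cc_0_1_1, cc_0_1_2, cc_0_1_3, cc_0_1_4, cc_0_1_5, cc_0_1_6, cc_0_1_7, cc_0_2_0,
      cc_0_2_1, cc_0_2_2, cc_0_2_3, cc_0_2_4, cc_0_2_5, cc_0_2_6, cc_0_2_7, cc_0_3_0, cc_0_3_1,
      cc_0_3_2, cc_0_3_3, cc_0_3_4, cc_0_3_5, cc_0_3_6, cc_0_3_7, cc_0_4_0, cc_0_4_1, cc_0_4_2,
      cc_0_4_3, cc_0_4_4, cc_0_4_5, cc_0_4_6, cc_0_4_7, cc_0_5_0, cc_0_5_1, cc_0_5_2, cc_0_5_3,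
      cc_0_5_4, cc_0_5_5, cc_0_5_6, cc_0_5_7, cc_0_6_0, cc_0_6_1, cc_0_6_2, cc_0_6_3, cc_0_6_4,
      cc_0_6_5, cc_0_6_6, cc_0_6_7]
    try ring

open B2Tbl in
set_option maxHeartbeats 1000000 in
theorem b2X1_mulVec (t : F) (v : IB2 → F) : b2X 1 t *ᵥ v = b2act (b2u1 t) v := by
  ext (i | i) <;> fin_cases i <;>
  · simp [Matrix.mulVec, dotProduct, Fintype.sum_sum_type, Fin.sum_univ_eight, b2X,
      b2act, b2proj, b2emb, b2u1, Matrix.mul_apply,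
      neg_1, neg'_1, cor_1_0, cor'_1_0, car_0_1, car'_0_1, cor_1_1, cor'_1_1, car_1_1, car'_1_1,
      cc_1_0_0, cc_1_0_1, cc_1_0_2, cc_1_0_3, cc_1_0_4, cc_1_0_5, cc_1_0_6, cc_1_0_7, cc_1_2_0,
      cc_1_2_1, cc_1_2_2, cc_1_2_3, cc_1_2_4, cc_1_2_5, cc_1_2_6, cc_1_2_7, cc_1_3_0, cc_1_3_1,
      cc_1_3_2, cc_1_3_3, cc_1_3_4, cc_1_3_5, cc_1_3_6, cc_1_3_7, cc_1_4_0, cc_1_4_1, cc_1_4_2,
      cc_1_4_3, cc_1_4_4, cc_1_4_5, cc_1_4_6, cc_1_4_7, cc_1_5_0, cc_1_5_1, cc_1_5_2, cc_1_5_3,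
      cc_1_5_4, cc_1_5_5, cc_1_5_6, cc_1_5_7, cc_1_7_0, cc_1_7_1, cc_1_7_2, cc_1_7_3, cc_1_7_4,
      cc_1_7_5, cc_1_7_6, cc_1_7_7]
    try ring

open B2Tbl in
set_option maxHeartbeats 1000000 in
theorem b2X2_mulVec (t : F) (v : IB2 → F) : b2X 2 t *ᵥ v = b2act (b2u2 t) v := by
  ext (i | i) <;> fin_cases i <;>
  · simp [Matrix.mulVec, dotProduct, Fintype.sum_sum_type, Fin.sum_univ_eight, b2X,
      b2act, b2proj, b2emb, b2u2, Matrix.mul_apply,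
      neg_2, neg'_2, cor_2_0, cor'_2_0, car_0_2, car'_0_2, cor_2_1, cor'_2_1, car_1_2, car'_1_2,
      cc_2_0_0, cc_2_0_1, cc_2_0_2, cc_2_0_3, cc_2_0_4, cc_2_0_5, cc_2_0_6, cc_2_0_7, cc_2_1_0,
      cc_2_1_1, cc_2_1_2, cc_2_1_3, cc_2_1_4, cc_2_1_5, cc_2_1_6, cc_2_1_7, cc_2_3_0, cc_2_3_1,
      cc_2_3_2, cc_2_3_3, cc_2_3_4, cc_2_3_5, cc_2_3_6, cc_2_3_7, cc_2_4_0, cc_2_4_1, cc_2_4_2,
      cc_2_4_3, cc_2_4_4, cc_2_4_5, cc_2_4_6, cc_2_4_7, cc_2_6_0, cc_2_6_1, cc_2_6_2, cc_2_6_3,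
      cc_2_6_4, cc_2_6_5, cc_2_6_6, cc_2_6_7, cc_2_7_0, cc_2_7_1, cc_2_7_2, cc_2_7_3, cc_2_7_4,
      cc_2_7_5, cc_2_7_6, cc_2_7_7]
    try ring

open B2Tbl in
set_option maxHeartbeats 1000000 in
theorem b2X3_mulVec (t : F) (v : IB2 → F) : b2X 3 t *ᵥ v = b2act (b2u3 t) v := by
  ext (i | i) <;> fin_cases i <;>
  · simp [Matrix.mulVec, dotProduct, Fintype.sum_sum_type, Fin.sum_univ_eight, b2X,
      b2act, b2proj, b2emb, b2u3, Matrix.mul_apply,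
      neg_3, neg'_3, cor_3_0, cor'_3_0, car_0_3, car'_0_3, cor_3_1, cor'_3_1, car_1_3, car'_1_3,
      cc_3_0_0, cc_3_0_1, cc_3_0_2, cc_3_0_3, cc_3_0_4, cc_3_0_5, cc_3_0_6, cc_3_0_7, cc_3_1_0,
      cc_3_1_1, cc_3_1_2, cc_3_1_3, cc_3_1_4, cc_3_1_5, cc_3_1_6, cc_3_1_7, cc_3_2_0, cc_3_2_1,
      cc_3_2_2, cc_3_2_3, cc_3_2_4, cc_3_2_5, cc_3_2_6, cc_3_2_7, cc_3_5_0, cc_3_5_1, cc_3_5_2,
      cc_3_5_3, cc_3_5_4, cc_3_5_5, cc_3_5_6, cc_3_5_7, cc_3_6_0, cc_3_6_1, cc_3_6_2, cc_3_6_3,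
      cc_3_6_4, cc_3_6_5, cc_3_6_6, cc_3_6_7, cc_3_7_0, cc_3_7_1, cc_3_7_2, cc_3_7_3, cc_3_7_4,
      cc_3_7_5, cc_3_7_6, cc_3_7_7]
    try ring

open B2Tbl in
set_option maxHeartbeats 1000000 in
theorem b2X4_mulVec (t : F) (v : IB2 → F) : b2X 4 t *ᵥ v = b2act (b2u4 t) v := by
  ext (i | i) <;> fin_cases i <;>
  · simp [Matrix.mulVec, dotProduct, Fintype.sum_sum_type, Fin.sum_univ_eight, b2X,
      b2act, b2proj, b2emb, b2u4, Matrix.mul_apply,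
      neg_4, neg'_4, cor_4_0, cor'_4_0, car_0_4, car'_0_4, cor_4_1, cor'_4_1, car_1_4, car'_1_4,
      cc_4_0_0, cc_4_0_1, cc_4_0_2, cc_4_0_3, cc_4_0_4, cc_4_0_5, cc_4_0_6, cc_4_0_7, cc_4_1_0,
      cc_4_1_1, cc_4_1_2, cc_4_1_3, cc_4_1_4, cc_4_1_5, cc_4_1_6, cc_4_1_7, cc_4_2_0, cc_4_2_1,
      cc_4_2_2, cc_4_2_3, cc_4_2_4, cc_4_2_5, cc_4_2_6, cc_4_2_7, cc_4_5_0, cc_4_5_1, cc_4_5_2,
      cc_4_5_3, cc_4_5_4, cc_4_5_5, cc_4_5_6, cc_4_5_7, cc_4_6_0, cc_4_6_1, cc_4_6_2, cc_4_6_3,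
      cc_4_6_4, cc_4_6_5, cc_4_6_6, cc_4_6_7, cc_4_7_0, cc_4_7_1, cc_4_7_2, cc_4_7_3, cc_4_7_4,
      cc_4_7_5, cc_4_7_6, cc_4_7_7]
    try ring

open B2Tbl in
set_option maxHeartbeats 1000000 in
theorem b2X5_mulVec (t : F) (v : IB2 → F) : b2X 5 t *ᵥ v = b2act (b2u5 t) v := by
  ext (i | i) <;> fin_cases i <;>
  · simp [Matrix.mulVec, dotProduct, Fintype.sum_sum_type, Fin.sum_univ_eight, b2X,
      b2act, b2proj, b2emb, b2u5, Matrix.mul_apply,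
      neg_5, neg'_5, cor_5_0, cor'_5_0, car_0_5, car'_0_5, cor_5_1, cor'_5_1, car_1_5, car'_1_5,
      cc_5_0_0, cc_5_0_1, cc_5_0_2, cc_5_0_3, cc_5_0_4, cc_5_0_5, cc_5_0_6, cc_5_0_7, cc_5_1_0,
      cc_5_1_1, cc_5_1_2, cc_5_1_3, cc_5_1_4, cc_5_1_5, cc_5_1_6, cc_5_1_7, cc_5_3_0, cc_5_3_1,
      cc_5_3_2, cc_5_3_3, cc_5_3_4, cc_5_3_5, cc_5_3_6, cc_5_3_7, cc_5_4_0, cc_5_4_1, cc_5_4_2,
      cc_5_4_3, cc_5_4_4, cc_5_4_5, cc_5_4_6, cc_5_4_7, cc_5_6_0, cc_5_6_1, cc_5_6_2, cc_5_6_3,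
      cc_5_6_4, cc_5_6_5, cc_5_6_6, cc_5_6_7, cc_5_7_0, cc_5_7_1, cc_5_7_2, cc_5_7_3, cc_5_7_4,
      cc_5_7_5, cc_5_7_6, cc_5_7_7]
    try ring

open B2Tbl in
set_option maxHeartbeats 1000000 in
theorem b2X6_mulVec (t : F) (v : IB2 → F) : b2X 6 t *ᵥ v = b2act (b2u6 t) v := by
  ext (i | i) <;> fin_cases i <;>
  · simp [Matrix.mulVec, dotProduct, Fintype.sum_sum_type, Fin.sum_univ_eight, b2X,
      b2act, b2proj, b2emb, b2u6, Matrix.mul_apply,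
      neg_6, neg'_6, cor_6_0, cor'_6_0, car_0_6, car'_0_6, cor_6_1, cor'_6_1, car_1_6, car'_1_6,
      cc_6_0_0, cc_6_0_1, cc_6_0_2, cc_6_0_3, cc_6_0_4, cc_6_0_5, cc_6_0_6, cc_6_0_7, cc_6_2_0,
      cc_6_2_1, cc_6_2_2, cc_6_2_3, cc_6_2_4, cc_6_2_5, cc_6_2_6, cc_6_2_7, cc_6_3_0, cc_6_3_1,
      cc_6_3_2, cc_6_3_3, cc_6_3_4, cc_6_3_5, cc_6_3_6, cc_6_3_7, cc_6_4_0, cc_6_4_1, cc_6_4_2,
      cc_6_4_3, cc_6_4_4, cc_6_4_5, cc_6_4_6, cc_6_4_7, cc_6_5_0, cc_6_5_1, cc_6_5_2, cc_6_5_3,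
      cc_6_5_4, cc_6_5_5, cc_6_5_6, cc_6_5_7, cc_6_7_0, cc_6_7_1, cc_6_7_2, cc_6_7_3, cc_6_7_4,
      cc_6_7_5, cc_6_7_6, cc_6_7_7]
    try ring

open B2Tbl in
set_option maxHeartbeats 1000000 in
theorem b2X7_mulVec (t : F) (v : IB2 → F) : b2X 7 t *ᵥ v = b2act (b2u7 t) v := by
  ext (i | i) <;> fin_cases i <;>
  · simp [Matrix.mulVec, dotProduct, Fintype.sum_sum_type, Fin.sum_univ_eight, b2X,
      b2act, b2proj, b2emb, b2u7, Matrix.mul_apply,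
      neg_7, neg'_7, cor_7_0, cor'_7_0, car_0_7, car'_0_7, cor_7_1, cor'_7_1, car_1_7, car'_1_7,
      cc_7_1_0, cc_7_1_1, cc_7_1_2, cc_7_1_3, cc_7_1_4, cc_7_1_5, cc_7_1_6, cc_7_1_7, cc_7_2_0,
      cc_7_2_1, cc_7_2_2, cc_7_2_3, cc_7_2_4, cc_7_2_5, cc_7_2_6, cc_7_2_7, cc_7_3_0, cc_7_3_1,
      cc_7_3_2, cc_7_3_3, cc_7_3_4, cc_7_3_5, cc_7_3_6, cc_7_3_7, cc_7_4_0, cc_7_4_1, cc_7_4_2,
      cc_7_4_3, cc_7_4_4, cc_7_4_5, cc_7_4_6, cc_7_4_7, cc_7_5_0, cc_7_5_1, cc_7_5_2, cc_7_5_3,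
      cc_7_5_4, cc_7_5_5, cc_7_5_6, cc_7_5_7, cc_7_6_0, cc_7_6_1, cc_7_6_2, cc_7_6_3, cc_7_6_4,
      cc_7_6_5, cc_7_6_6, cc_7_6_7]
    try ring

/-- The adjoint image of a root element of `Sp_4(F)` is the root element of the Chevalley
group. -/
theorem b2mat_b2u (r : Fin 8) (t : F) : b2mat (b2u r t) = b2X r t := by
  apply Cfsg.Agent.H17.matrix_ext_mulVec
  intro v
  rw [b2mat_mulVec]
  fin_cases r
  · exact (b2X0_mulVec t v).symm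
  · exact (b2X1_mulVec t v).symm
  · exact (b2X2_mulVec t v).symm
  · exact (b2X3_mulVec t v).symm
  · exact (b2X4_mulVec t v).symm
  · exact (b2X5_mulVec t v).symm
  · exact (b2X6_mulVec t v).symm
  · exact (b2X7_mulVec t v).symm

end Cfsg.Agent.H17
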