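import Mathlib
import Cfsg.Agent.H64.JzDefs
import Cfsg.Agent.S2952
import Cfsg.Agent.H97.JyPFacts
import Cfsg.Agent.H94.JxPFacts
import Cfsg.Agent.H32.SqV
import Cfsg.Agent.H51.Local

/-!
# JX (S2953, helper52's KILL2): the `P`-side input `StPSide`

From `Base S M T K L`, with `D := O₂(K ⊔ T)`: `T ∖ D` is a single coset of `D` in `T`
(index 2), every element of `T ∖ D` inverts `K` modulo `D`, and `K` has an element of order
dividing 3 outside the base `M`.  Proof: helper97's abstract `pfacts` for `O := O₂(K)` (via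
S2952: `T ≤ N(K)`), and `D = O₂(K ⊔ T)` by the dichotomy for normal subgroups of `K ⊔ T`.
-/

set_option autoImplicit false
open Cfsg

namespace Cfsg.Agent.H17.Jx

universe u

/-- helper52's `StPSide` (post 11203), verbatim. -/
def StPSide : Prop := ∀ {G : Type u} [Group G] [Finite G] (S : Sylow 2 G) (M T K L : Subgroup G),
  Cfsg.Agent.H64.Jz.Base S M T K L →
  (∀ a ∈ T, ∀ b ∈ T, a ∉ pCoreOf 2 (K ⊔ T) → b ∉ pCoreOf 2 (K ⊔ T) →
    a * b ∈ pCoreOf 2 (K ⊔ T)) ∧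
  (∀ x ∈ T, x ∉ pCoreOf 2 (K ⊔ T) → ∀ g ∈ K, x * g * x⁻¹ * g ∈ pCoreOf 2 (K ⊔ T)) ∧
  ∃ k ∈ K, k ^ 3 = 1 ∧ k ∉ M

theorem pSide : StPSide.{u} := by
  intro G _ _ S M T K L hB
  have hOPT : pCoreOf 2 (K ⊔ T) ≤ T := (Cfsg.Agent.H94.Jx.pfacts S M T K L hB).1
  obtain ⟨⟨hL, hN, hZ⟩, hO, hM, hMJ, hT, hTleS, hK, hLmax, hKL⟩ := hB
  have : Fact (Nat.Prime 2) := ⟨Nat.prime_two⟩
  have hT2 : IsPGroup 2 ↥T := hT.1.1
  have hKJ : IsJComponent T K := hK.1.1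
  have hKM : ¬ K ≤ M := hK.2.1
  -- S2952: T normalizes K
  have hnorm : (K.subgroupOf (K ⊔ T)).Normal :=
    Cfsg.Agent.S2952.result hL hN hZ hO S M hM hMJ T hT K hK
  have hPK : K ⊔ T ≤ Subgroup.normalizer (K : Set G) :=
    (Subgroup.normal_subgroupOf_iff_le_normalizer le_sup_left).1 hnorm
  have hTK : T ≤ Subgroup.normalizer (K : Set G) := le_sup_right.trans hPK
  -- O := O₂(K)
  have hOK : pCoreOf 2 K ≤ K := Cfsg.Agent.H51.pCoreOf_le 2 K
  have hO2 : IsPGroup 2 ↥(pCoreOf 2 K) := Cfsg.Agent.H51.pCoreOf_isPGroup 2 K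
  have hOnK : K ≤ Subgroup.normalizer (pCoreOf 2 K : Set G) :=
    Cfsg.Agent.H51.le_normalizer_pCoreOf 2 K
  have hNKO : Subgroup.normalizer (K : Set G) ≤ Subgroup.normalizer (pCoreOf 2 K : Set G) := by
    intro g hg
    have h1 : ∀ k ∈ K, g * k * g⁻¹ ∈ K := fun k hk => (Subgroup.mem_normalizer_iff.mp hg k).mp hk
    have h2 : ∀ k ∈ K, g⁻¹ * k * g ∈ K := by
      intro k hk
      apply (Subgroup.mem_normalizer_iff.mp hg (g⁻¹ * k * g)).mpr
      have h3 : g * (g⁻¹ * k * g) * g⁻¹ = k := by group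
      rw [h3]; exact hk
    apply Cfsg.Agent.H97.Jy.mem_normalizer_of_conj
    · intro t ht
      exact Cfsg.Agent.H32.Sq.pCoreOf_conj_of_norm K h1 h2 ht
    · intro t ht
      have h4 := Cfsg.Agent.H32.Sq.pCoreOf_conj_of_norm K (g := g⁻¹) (by simpa using h2)
        (by simpa using h1) ht
      simpa using h4
  have hOnT : T ≤ Subgroup.normalizer (pCoreOf 2 K : Set G) := hTK.trans hNKO
  have hOP : pCoreOf 2 K ≤ pCoreOf 2 (K ⊔ T) :=
    Cfsg.Agent.H51.le_pCoreOf 2 (hOK.trans le_sup_left) (sup_le hOnK hOnT) hO2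
  have hOT : pCoreOf 2 K ≤ T := hOP.trans hOPT
  obtain ⟨D, k, hDT, hOD, hKD, hTD, hidx, hinv, -, hcube, hkK, hkO, hk3, -, hdich⟩ :=
    Cfsg.Agent.H97.Jy.pfacts K T (pCoreOf 2 K) hT2 hTK hOK hOT hKJ.2.2.1 hOnK hOnT hKJ.1
  -- D = O₂(K ⊔ T)
  have hDQ : D = pCoreOf 2 (K ⊔ T) := by
    apply le_antisymm
    · exact Cfsg.Agent.H51.le_pCoreOf 2 (hDT.trans le_sup_right) (sup_le hKD hTD)
        (hT2.to_le hDT)
    · rcases hdich (pCoreOf 2 (K ⊔ T)) (Cfsg.Agent.H51.pCoreOf_le 2 (K ⊔ T))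
          (Cfsg.Agent.H51.le_normalizer_pCoreOf 2 (K ⊔ T)) with h | h
      · exact h
      · exfalso
        apply hkO
        have hodd : Odd (orderOf k) := by
          have hdvd : orderOf k ∣ 3 := orderOf_dvd_of_pow_eq_one hk3
          exact (by decide : Odd 3).of_dvd_nat hdvd
        have hk1 : k = 1 := Cfsg.Agent.H97.Jy.eq_one_of_odd_of_two
          (Cfsg.Agent.H51.pCoreOf_isPGroup 2 (K ⊔ T)) (h hkK) hodd
        rw [hk1]; exact Subgroup.one_mem _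
  refine ⟨?_, ?_, ?_⟩
  · rw [← hDQ]; exact hidx
  · rw [← hDQ]
    intro x hx hxD g hg
    exact hOD (hinv x hx hxD g hg)
  · by_contra hcon
    push_neg at hcon
    apply hKM
    rw [← hKJ.1, Subgroup.closure_le]
    rintro g ⟨hgK, hgodd⟩
    apply hcon g hgK
    have h3 : g ^ 3 ∈ pCoreOf 2 K := hcube g hgK
    have hodd3 : Odd (orderOf (g ^ 3)) := hgodd.of_dvd_nat (orderOf_pow_dvd 3)
    exact Cfsg.Agent.H97.Jy.eq_one_of_odd_of_two hO2 h3 hodd3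

end Cfsg.Agent.H17.Jx

#print axioms Cfsg.Agent.H17.Jx.pSide

universe v

example : Cfsg.Agent.H17.Jx.StPSide.{v} := Cfsg.Agent.H17.Jx.pSide
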