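import Mathlib
import Cfsg.Prelude.Def_Classical
import Cfsg.Agent.H17.GUBlock
import Cfsg.Agent.H17.O5Sp4

set_option autoImplicit false

/-! Helper lemmas (helper17): the action of `SL_2(K)` (`|K| = q^2`) on the 4-dimensional `F`-space
of Hermitian `2 × 2` matrices over `K`, giving a homomorphism `SL_2(K) → O^-_4(F)`. -/

namespace Cfsg.Agent.H17

open Matrix

variable {F K : Type*} [Field F] [Field K] [Fintype K] {q : ℕ}

/-- Index type of the 4-dimensional minus-type orthogonal space. -/
abbrev I4m : Type := (Fin 1 ⊕ Fin 1) ⊕ Fin 2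

/-- Conjugate transpose with respect to `x ↦ x^q`. -/
def hstar (hK : Fintype.card K = q ^ 2) (g : Matrix (Fin 2) (Fin 2) K) :
    Matrix (Fin 2) (Fin 2) K :=
  (g.map (frobHom hK))ᵀ

theorem hstar_apply (hK : Fintype.card K = q ^ 2) (g : Matrix (Fin 2) (Fin 2) K) (i j : Fin 2) :
    hstar hK g i j = (g j i) ^ q := rfl

theorem hstar_mul (hK : Fintype.card K = q ^ 2) (g h : Matrix (Fin 2) (Fin 2) K) :
    hstar hK (g * h) = hstar hK h * hstar hK g := by
  unfold hstar
  rw [Matrix.map_mul, Matrix.transpose_mul]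

theorem hstar_hstar (hK : Fintype.card K = q ^ 2) (g : Matrix (Fin 2) (Fin 2) K) :
    hstar hK (hstar hK g) = g := by
  ext i j
  rw [hstar_apply, hstar_apply, frob_frob hK]

theorem hstar_one (hK : Fintype.card K = q ^ 2) : hstar hK (1 : Matrix (Fin 2) (Fin 2) K) = 1 := by
  unfold hstar
  rw [Matrix.map_one _ (map_zero _) (map_one _), Matrix.transpose_one]

theorem hstar_det (hK : Fintype.card K = q ^ 2) (g : Matrix (Fin 2) (Fin 2) K) :
    (hstar hK g).det = g.det ^ q := by
  unfold hstar
  rw [Matrix.det_transpose]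
  exact (RingHom.map_det (frobHom hK) g).symm

/-- The data of the quadratic extension `K / F`. -/
structure QExt (hK : Fintype.card K = q ^ 2) (φ : F →+* K) (α β : K) : Prop where
  ne : α ≠ β
  fixφ : ∀ x : F, φ x ^ q = φ x
  σα : α ^ q = β
  σβ : β ^ q = α
  fix : ∀ x : K, x ^ q = x → ∃ y : F, φ y = x

variable (φ : F →+* K) (α β : K)

/-- The Hermitian matrix of a vector. -/
def hemb (v : I4m → F) : Matrix (Fin 2) (Fin 2) K :=
  !![φ (v (.inl (.inl 0))), φ (v (.inr 0)) - α * φ (v (.inr 1));
     φ (v (.inr 0)) - β * φ (v (.inr 1)), -φ (v (.inl (.inr 0)))]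

/-- Coordinates of a Hermitian matrix. -/
noncomputable def hproj (M : Matrix (Fin 2) (Fin 2) K) : I4m → F :=
  Sum.elim (Sum.elim (fun _ => Function.invFun φ (M 0 0)) (fun _ => Function.invFun φ (-M 1 1)))
    ![Function.invFun φ ((β * M 0 1 - α * M 1 0) / (β - α)),
      Function.invFun φ ((M 0 1 - M 1 0) / (β - α))]

theorem hproj_hemb (hαβ : α ≠ β) (v : I4m → F) : hproj φ α β (hemb φ α β v) = v := by
  have hd : β - α ≠ 0 := sub_ne_zero.mpr (Ne.symm hαβ)
  have hinv : ∀ x : F, Function.invFun φ (φ x) = x := Function.leftInverse_invFun φ.injective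
  ext ((i | i) | i)
  · fin_cases i
    simp [hproj, hemb, hinv]
  · fin_cases i
    simp [hproj, hemb, hinv]
  · fin_cases i
    · show Function.invFun φ ((β * hemb φ α β v 0 1 - α * hemb φ α β v 1 0) / (β - α)) =
        v (Sum.inr 0)
      have : (β * hemb φ α β v 0 1 - α * hemb φ α β v 1 0) / (β - α) = φ (v (Sum.inr 0)) := by
        simp only [hemb, Matrix.of_apply, Matrix.cons_val', Matrix.cons_val_zero,
          Matrix.cons_val_one, Matrix.cons_val_fin_one]
        field_simp
        ring
      rw [this, hinv]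
    · show Function.invFun φ ((hemb φ α β v 0 1 - hemb φ α β v 1 0) / (β - α)) = v (Sum.inr 1)
      have : (hemb φ α β v 0 1 - hemb φ α β v 1 0) / (β - α) = φ (v (Sum.inr 1)) := by
        simp only [hemb, Matrix.of_apply, Matrix.cons_val', Matrix.cons_val_zero,
          Matrix.cons_val_one, Matrix.cons_val_fin_one]
        field_simp
        ring
      rw [this, hinv]

theorem hemb_injective (hαβ : α ≠ β) : Function.Injective (hemb φ α β) :=
  Function.LeftInverse.injective (hproj_hemb φ α β hαβ)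

theorem hemb_add (v w : I4m → F) : hemb φ α β (v + w) = hemb φ α β v + hemb φ α β w := by
  ext i j
  fin_cases i <;> fin_cases j <;> simp [hemb] <;> ring

theorem hemb_smul (c : F) (v : I4m → F) : hemb φ α β (c • v) = φ c • hemb φ α β v := by
  ext i j
  fin_cases i <;> fin_cases j <;> simp [hemb] <;> ring

variable {φ α β}

theorem hemb_herm {hK : Fintype.card K = q ^ 2} (h : QExt hK φ α β) (v : I4m → F) :
    hstar hK (hemb φ α β v) = hemb φ α β v := by
  ext i j
  fin_cases i <;> fin_cases j <;>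
    simp [hstar_apply, hemb, frob_sub hK, frob_neg hK, mul_pow, h.fixφ, h.σα, h.σβ]

theorem hemb_hproj {hK : Fintype.card K = q ^ 2} (h : QExt hK φ α β)
    (M : Matrix (Fin 2) (Fin 2) K) (hM : hstar hK M = M) : hemb φ α β (hproj φ α β M) = M := by
  have hd : β - α ≠ 0 := sub_ne_zero.mpr (Ne.symm h.ne)
  have h00 : M 0 0 ^ q = M 0 0 := by
    have := congrFun (congrFun hM 0) 0
    rwa [hstar_apply] at this
  have h11 : M 1 1 ^ q = M 1 1 := by
    have := congrFun (congrFun hM 1) 1
    rwa [hstar_apply] at this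
  have h01 : M 1 0 ^ q = M 0 1 := by
    have := congrFun (congrFun hM 0) 1
    rwa [hstar_apply] at this
  have h10 : M 0 1 ^ q = M 1 0 := by
    have := congrFun (congrFun hM 1) 0
    rwa [hstar_apply] at this
  have hdq : (β - α) ^ q = -(β - α) := by
    rw [frob_sub hK, h.σα, h.σβ]
    ring
  have hinv : ∀ k : K, k ^ q = k → φ (Function.invFun φ k) = k := fun k hk =>
    Function.invFun_eq (h.fix k hk)
  have e00 := hinv (M 0 0) h00
  have e11 := hinv (-M 1 1) (by rw [frob_neg hK, h11])
  have e1 := hinv ((β * M 0 1 - α * M 1 0) / (β - α)) (by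
    rw [div_pow, hdq, frob_sub hK, mul_pow, mul_pow, h.σα, h.σβ, h01, h10]
    field_simp
    ring)
  have e2 := hinv ((M 0 1 - M 1 0) / (β - α)) (by
    rw [div_pow, hdq, frob_sub hK, h01, h10]
    field_simp
    ring)
  ext i j
  fin_cases i <;> fin_cases j
  · simp [hemb, hproj, e00]
  · simp only [hemb, hproj, Sum.elim_inr]
    simp [e1, e2]
    field_simp
    ring
  · simp only [hemb, hproj, Sum.elim_inr]
    simp [e1, e2]
    field_simp
    ring
  · simp [hemb, hproj, e11]

variable (φ α β)

/-- The action of a `2 × 2` matrix over `K` on the 4-dimensional `F`-space. -/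
noncomputable def hact (hK : Fintype.card K = q ^ 2) (g : Matrix (Fin 2) (Fin 2) K)
    (v : I4m → F) : I4m → F :=
  hproj φ α β (g * hemb φ α β v * hstar hK g)

variable {φ α β}

theorem hemb_hact {hK : Fintype.card K = q ^ 2} (h : QExt hK φ α β)
    (g : Matrix (Fin 2) (Fin 2) K) (v : I4m → F) :
    hemb φ α β (hact φ α β hK g v) = g * hemb φ α β v * hstar hK g := by
  apply hemb_hproj h
  rw [hstar_mul, hstar_mul, hstar_hstar, hemb_herm h, Matrix.mul_assoc]

theorem hact_one {hK : Fintype.card K = q ^ 2} (h : QExt hK φ α β) (v : I4m → F) :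
    hact φ α β hK 1 v = v := by
  unfold hact
  rw [hstar_one, Matrix.one_mul, Matrix.mul_one, hproj_hemb φ α β h.ne]

theorem hact_mul {hK : Fintype.card K = q ^ 2} (h : QExt hK φ α β)
    (g g' : Matrix (Fin 2) (Fin 2) K) (v : I4m → F) :
    hact φ α β hK (g * g') v = hact φ α β hK g (hact φ α β hK g' v) := by
  apply hemb_injective φ α β h.ne
  rw [hemb_hact h, hemb_hact h, hemb_hact h, hstar_mul]
  simp only [Matrix.mul_assoc]

theorem det_hemb (a b : F) (ha : φ a = -(α + β)) (hb : φ b = α * β) (v : I4m → F) :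
    (hemb φ α β v).det = -φ (Cfsg.quadFormMinus 1 F a b v) := by
  unfold Cfsg.quadFormMinus
  simp only [hemb, Matrix.det_fin_two_of, Finset.univ_unique, Fin.default_eq_zero, Fin.isValue,
    Finset.sum_singleton, map_add, map_mul, map_pow, ha, hb]
  ring

theorem hact_quad {hK : Fintype.card K = q ^ 2} (h : QExt hK φ α β) (a b : F)
    (ha : φ a = -(α + β)) (hb : φ b = α * β) (g : Matrix (Fin 2) (Fin 2) K) (hg : g.det = 1)
    (v : I4m → F) :
    Cfsg.quadFormMinus 1 F a b (hact φ α β hK g v) = Cfsg.quadFormMinus 1 F a b v := by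
  apply φ.injective
  have h1 := det_hemb a b ha hb (hact φ α β hK g v)
  rw [hemb_hact h, Matrix.det_mul, Matrix.det_mul, hstar_det, hg, one_pow, one_mul, mul_one,
    det_hemb a b ha hb v] at h1
  exact neg_injective h1.symm

/-- The action as a linear map. -/
noncomputable def hactL {hK : Fintype.card K = q ^ 2} (h : QExt hK φ α β)
    (g : Matrix (Fin 2) (Fin 2) K) : (I4m → F) →ₗ[F] (I4m → F) where
  toFun := hact φ α β hK g
  map_add' v w := by
    apply hemb_injective φ α β h.ne
    rw [hemb_hact h, hemb_add, hemb_add, hemb_hact h, hemb_hact h, Matrix.mul_add, Matrix.add_mul]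
  map_smul' c v := by
    apply hemb_injective φ α β h.ne
    rw [hemb_hact h, hemb_smul, RingHom.id_apply, hemb_smul, hemb_hact h, Matrix.mul_smul,
      Matrix.smul_mul]

theorem hactL_apply {hK : Fintype.card K = q ^ 2} (h : QExt hK φ α β)
    (g : Matrix (Fin 2) (Fin 2) K) (v : I4m → F) : hactL h g v = hact φ α β hK g v := rfl

/-- The matrix of the action. -/
noncomputable def hmat {hK : Fintype.card K = q ^ 2} (h : QExt hK φ α β)
    (g : Matrix (Fin 2) (Fin 2) K) : Matrix I4m I4m F := LinearMap.toMatrix' (hactL h g)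

theorem hmat_mulVec {hK : Fintype.card K = q ^ 2} (h : QExt hK φ α β)
    (g : Matrix (Fin 2) (Fin 2) K) (v : I4m → F) : hmat h g *ᵥ v = hact φ α β hK g v := by
  rw [hmat, LinearMap.toMatrix'_mulVec, hactL_apply]

theorem hmat_one {hK : Fintype.card K = q ^ 2} (h : QExt hK φ α β) :
    hmat h (1 : Matrix (Fin 2) (Fin 2) K) = 1 := by
  have : hactL h (1 : Matrix (Fin 2) (Fin 2) K) = LinearMap.id := by
    apply LinearMap.ext
    intro v
    rw [hactL_apply, hact_one h, LinearMap.id_apply]
  rw [hmat, this, LinearMap.toMatrix'_id]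

theorem hmat_mul {hK : Fintype.card K = q ^ 2} (h : QExt hK φ α β)
    (g g' : Matrix (Fin 2) (Fin 2) K) : hmat h (g * g') = hmat h g * hmat h g' := by
  have : hactL h (g * g') = hactL h g ∘ₗ hactL h g' := by
    apply LinearMap.ext
    intro v
    rw [LinearMap.comp_apply, hactL_apply, hactL_apply, hactL_apply, hact_mul h]
  rw [hmat, this, LinearMap.toMatrix'_comp]
  rfl

/-- The homomorphism `SL_2(K) → Mat_4(F)`. -/
noncomputable def o4hom0 {hK : Fintype.card K = q ^ 2} (h : QExt hK φ α β) :
    Matrix.SpecialLinearGroup (Fin 2) K →* Matrix I4m I4m F where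
  toFun g := hmat h (g : Matrix (Fin 2) (Fin 2) K)
  map_one' := hmat_one h
  map_mul' _ _ := hmat_mul h _ _

/-- The homomorphism `SL_2(K) → O^-_4(F)`. -/
noncomputable def o4hom {hK : Fintype.card K = q ^ 2} (h : QExt hK φ α β) (a b : F)
    (ha : φ a = -(α + β)) (hb : φ b = α * β) :
    Matrix.SpecialLinearGroup (Fin 2) K →* ↥(Cfsg.isometryGroup F (Cfsg.quadFormMinus 1 F a b)) :=
  (o4hom0 h).toHomUnits.codRestrict _ (fun g => by
    intro u v
    show Cfsg.quadFormMinus 1 F a b (hmat h (g : Matrix (Fin 2) (Fin 2) K) *ᵥ u) =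
      Cfsg.quadFormMinus 1 F a b u
    rw [hmat_mulVec, hact_quad h a b ha hb _ g.2])

theorem o4hom_mulVec {hK : Fintype.card K = q ^ 2} (h : QExt hK φ α β) (a b : F)
    (ha : φ a = -(α + β)) (hb : φ b = α * β) (g : Matrix.SpecialLinearGroup (Fin 2) K)
    (v : I4m → F) :
    (((o4hom h a b ha hb g : ↥(Cfsg.isometryGroup F (Cfsg.quadFormMinus 1 F a b))) :
      Matrix.GeneralLinearGroup I4m F) : Matrix I4m I4m F) *ᵥ v =
      hact φ α β hK (g : Matrix (Fin 2) (Fin 2) K) v :=
  hmat_mulVec h _ v

theorem o4hom_eq_one_iff {hK : Fintype.card K = q ^ 2} (h : QExt hK φ α β) (a b : F)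
    (ha : φ a = -(α + β)) (hb : φ b = α * β) (g : Matrix.SpecialLinearGroup (Fin 2) K) :
    o4hom h a b ha hb g = 1 ↔ ∀ v : I4m → F,
      (g : Matrix (Fin 2) (Fin 2) K) * hemb φ α β v * hstar hK (g : Matrix (Fin 2) (Fin 2) K) =
        hemb φ α β v := by
  constructor
  · intro hg v
    have h1 := o4hom_mulVec h a b ha hb g v
    rw [hg] at h1
    have h2 : hact φ α β hK (g : Matrix (Fin 2) (Fin 2) K) v = v := by
      rw [← h1]
      simp
    rw [← hemb_hact h, h2]
  · intro hall
    apply Subtype.ext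
    apply Units.ext
    show hmat h (g : Matrix (Fin 2) (Fin 2) K) = 1
    have : hactL h (g : Matrix (Fin 2) (Fin 2) K) = LinearMap.id := by
      apply LinearMap.ext
      intro v
      rw [hactL_apply, LinearMap.id_apply]
      apply hemb_injective φ α β h.ne
      rw [hemb_hact h, hall v]
    rw [hmat, this, LinearMap.toMatrix'_id]

theorem o4hom_ker {hK : Fintype.card K = q ^ 2} (h : QExt hK φ α β) (a b : F)
    (ha : φ a = -(α + β)) (hb : φ b = α * β) :
    (o4hom h a b ha hb).ker = Subgroup.center (Matrix.SpecialLinearGroup (Fin 2) K) := by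
  ext g
  rw [MonoidHom.mem_ker, o4hom_eq_one_iff, Matrix.SpecialLinearGroup.mem_center_iff]
  constructor
  · intro hall
    have e1 := hall (Pi.single (Sum.inl (Sum.inl 0)) 1)
    have e2 := hall (Pi.single (Sum.inl (Sum.inr 0)) 1)
    have e3 := hall (Pi.single (Sum.inr 0) 1)
    have e1_11 := congrFun (congrFun e1 1) 1
    have e2_00 := congrFun (congrFun e2 0) 0
    have e2_11 := congrFun (congrFun e2 1) 1
    have e3_01 := congrFun (congrFun e3 0) 1
    simp [hemb, Matrix.mul_apply, Fin.sum_univ_two, hstar_apply] at e1_11 e2_00 e2_11 e3_01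
    have h10 : (g : Matrix (Fin 2) (Fin 2) K) 1 0 = 0 := by
      rcases e1_11 with h' | h'
      · exact h'
      · exact h'.1
    have h01 : (g : Matrix (Fin 2) (Fin 2) K) 0 1 = 0 := by
      rcases e2_00 with h' | h'
      · exact h'
      · exact h'.1
    have hdet : (g : Matrix (Fin 2) (Fin 2) K) 0 0 * (g : Matrix (Fin 2) (Fin 2) K) 1 1 = 1 := by
      have := g.2
      rw [Matrix.det_fin_two, h01, h10] at this
      linear_combination this
    rw [h01, zero_mul, zero_add] at e3_01
    have h00 : (g : Matrix (Fin 2) (Fin 2) K) 0 0 ≠ 0 := by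
      intro h0
      rw [h0, zero_mul] at hdet
      exact zero_ne_one hdet
    have hfix : (g : Matrix (Fin 2) (Fin 2) K) 1 1 ^ q = (g : Matrix (Fin 2) (Fin 2) K) 1 1 := by
      apply mul_left_cancel₀ h00
      rw [e3_01, hdet]
    rw [hfix] at e2_11
    have h0011 : (g : Matrix (Fin 2) (Fin 2) K) 0 0 = (g : Matrix (Fin 2) (Fin 2) K) 1 1 := by
      calc (g : Matrix (Fin 2) (Fin 2) K) 0 0
          = (g : Matrix (Fin 2) (Fin 2) K) 0 0 *
            ((g : Matrix (Fin 2) (Fin 2) K) 1 1 * (g : Matrix (Fin 2) (Fin 2) K) 1 1) := by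
            rw [e2_11, mul_one]
        _ = (g : Matrix (Fin 2) (Fin 2) K) 1 1 := by rw [← mul_assoc, hdet, one_mul]
    refine ⟨(g : Matrix (Fin 2) (Fin 2) K) 1 1, ?_, ?_⟩
    · rw [Fintype.card_fin, pow_two, e2_11]
    · ext i j
      fin_cases i <;> fin_cases j <;> simp [h01, h10, h0011]
  · rintro ⟨r, hr, hg⟩ v
    rw [Fintype.card_fin] at hr
    have hr' : r = 1 ∨ r = -1 := by
      have : (r - 1) * (r + 1) = 0 := by linear_combination hr
      rcases mul_eq_zero.mp this with h' | h'
      · left; linear_combination h'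
      · right; linear_combination h'
    have hrq : r * r ^ q = 1 := by
      rcases hr' with rfl | rfl
      · simp
      · rw [frob_neg hK, one_pow]
        ring
    rw [← hg]
    have hq := two_le_of_card_sq hK
    ext i j
    fin_cases i <;> fin_cases j <;>
      simp [Matrix.mul_apply, Fin.sum_univ_two, hstar_apply, zero_pow (by omega : q ≠ 0)]
    · linear_combination (hemb φ α β v 0 0) * hrq
    · linear_combination (hemb φ α β v 0 1) * hrq
    · linear_combination (hemb φ α β v 1 0) * hrq
    · linear_combination (hemb φ α β v 1 1) * hrq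

end Cfsg.Agent.H17
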