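import Mathlib
import Cfsg.Agent.H17.O4Minus
import Cfsg.Agent.H50.QuadExt
import Cfsg.Agent.H18.HermCount
import Cfsg.Agent.H45.SLGen
import Cfsg.Agent.S0836

set_option autoImplicit false

/-! Helper lemmas (helper17): existence of the quadratic extension data, and perfectness of
`SL_2(K)` for `|K| ≥ 4`. -/

namespace Cfsg.Agent.H17

open Matrix

/-- The quadratic extension data attached to an anisotropic binary form. -/
theorem exists_qext {F K : Type*} [Field F] [Fintype F] [Field K] [Fintype K] {q : ℕ}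
    (hF : Fintype.card F = q) (hK : Fintype.card K = q ^ 2) (a b : F)
    (hab : ∀ z₁ z₂ : F, z₁ ^ 2 + a * z₁ * z₂ + b * z₂ ^ 2 = 0 → z₁ = 0 ∧ z₂ = 0) :
    ∃ (φ : F →+* K) (α β : K), QExt hK φ α β ∧ φ a = -(α + β) ∧ φ b = α * β := by
  classical
  obtain ⟨φ, α, β, hne, ha, hb⟩ := Cfsg.Agent.H50.QuadExt.exists_roots hF hK a b hab
  have hq := two_le_of_card_sq hK
  have hfixφ : ∀ x : F, φ x ^ q = φ x := by
    intro x
    rw [← map_pow, ← hF, FiniteField.pow_card]
  have hfix : ∀ x : K, x ^ q = x → ∃ y : F, φ y = x := by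
    have hinj : Function.Injective (fun y : F => (⟨φ y, hfixφ y⟩ : {t : K // t ^ q = t})) := by
      intro y y' hyy'
      exact φ.injective (congrArg Subtype.val hyy')
    have hcard : Nat.card {t : K // t ^ q = t} ≤ Nat.card F := by
      rw [Nat.card_eq_fintype_card (α := F), hF]
      exact Cfsg.Agent.H18.card_fix_le hq
    have hbij := Function.Injective.bijective_of_nat_card_le hinj hcard
    intro x hx
    obtain ⟨y, hy⟩ := hbij.2 ⟨x, hx⟩
    exact ⟨y, congrArg Subtype.val hy⟩
  have hroot : α ^ 2 + φ a * α + φ b = 0 := by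
    rw [ha, hb]
    ring
  have hroot' : (α ^ q - α) * (α ^ q - β) = 0 := by
    have h1 : (α ^ 2 + φ a * α + φ b) ^ q = 0 := by
      rw [hroot, zero_pow (by omega)]
    rw [frob_add hK, frob_add hK, mul_pow, hfixφ, hfixφ, ← pow_mul, mul_comm 2 q, pow_mul, ha,
      hb] at h1
    linear_combination h1
  have hσα : α ^ q = β := by
    rcases mul_eq_zero.mp hroot' with h1 | h1
    · exfalso
      obtain ⟨c, hc⟩ := hfix α (sub_eq_zero.mp h1)
      have h2 : c ^ 2 + a * c * 1 + b * 1 ^ 2 = 0 := by
        apply φ.injective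
        rw [map_zero, ← hroot, ← hc]
        simp only [map_add, map_mul, map_pow, map_one]
        ring
      exact one_ne_zero (hab c 1 h2).2
    · exact sub_eq_zero.mp h1
  refine ⟨φ, α, β, ⟨hne, hfixφ, hσα, ?_, hfix⟩, ha, hb⟩
  rw [← hσα, frob_frob hK]

/-- `SL_2(K)` is perfect when `K` has at least four elements. -/
theorem sl2_perfect {K : Type*} [Field K] [Fintype K] (hK : 4 ≤ Fintype.card K) :
    commutator (Matrix.SpecialLinearGroup (Fin 2) K) = ⊤ := by
  classical
  obtain ⟨x, hx0, hx1⟩ : ∃ x : K, x ≠ 0 ∧ x ^ 2 ≠ 1 := by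
    by_contra hcon
    push Not at hcon
    have hsub : (Finset.univ : Finset K) ⊆ {0, 1, -1} := by
      intro x _
      by_cases hx : x = 0
      · simp [hx]
      · have h1 := hcon x hx
        have h2 : (x - 1) * (x + 1) = 0 := by linear_combination h1
        rcases mul_eq_zero.mp h2 with h3 | h3
        · have : x = 1 := by linear_combination h3
          simp [this]
        · have : x = -1 := by linear_combination h3
          simp [this]
    have h1 := Finset.card_le_card hsub
    have h2 : ({0, 1, -1} : Finset K).card ≤ 3 := Finset.card_le_three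
    rw [Finset.card_univ] at h1
    omega
  rw [eq_top_iff, ← Cfsg.Agent.H45.elemSubgroup_eq_top (n := Fin 2) (K := K)]
  unfold Cfsg.Agent.H45.elemSubgroup
  apply (Subgroup.closure_le _).2
  rintro g ⟨i, j, hij, c, rfl⟩
  rw [commutator_eq_closure]
  apply Subgroup.subset_closure
  exact Cfsg.Agent.S0836.result 2 (Or.inr ⟨rfl, x, hx0, hx1⟩) i j hij c _ rfl

end Cfsg.Agent.H17
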