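import Mathlib
import Cfsg.Agent.H17.TgDefs
import Cfsg.Agent.H17.TgD1
import Cfsg.Agent.H17.TgD2
import Cfsg.Agent.H17.TgMain
import Cfsg.Agent.H98.TgLayer
import Cfsg.Agent.H98.TgSq
import Cfsg.Agent.H63.TgFrat
import Cfsg.Agent.H65.TgIdx2
import Cfsg.Agent.H65.TgCrit
import Cfsg.Agent.H65.TgFix
import Cfsg.Agent.H39.TgQ0grp
import Cfsg.Agent.H11.TgC1
import Cfsg.Agent.H70.TgN2
import Cfsg.Agent.H18.TgD1Inv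
import Cfsg.Agent.H72.TgD1Quot
import Cfsg.Agent.H73.TgCent
import Cfsg.Agent.H54.TgQ0C
import Cfsg.Agent.H54.TgQ0D
import Cfsg.Agent.H39.TgInv3
import Cfsg.Agent.H24.TgQ0b
import Cfsg.Agent.H40.TgE8
import Cfsg.Agent.H11.TgC3
import Cfsg.Agent.H36.TgFour
import Cfsg.Agent.H72.TgD1ExpT
import Cfsg.Agent.H65.TgVB
import Cfsg.Agent.H18.TgD1Comm
import Cfsg.Agent.H73.TgL11
import Cfsg.Agent.H39.TgRank
import Cfsg.Agent.H63.TgE16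
import Cfsg.Agent.H24.TgQ0a
import Cfsg.Agent.H91.TgE64
import Cfsg.Agent.H18.TgE32
import Cfsg.Agent.H35.TgQex1
import Cfsg.Agent.H7.TgQex2
import Cfsg.Agent.H38.TgCW5
import Cfsg.Agent.H70.TgN3
import Cfsg.Agent.H5.TgSelf
import Cfsg.Agent.H61.TgD1ExpN
import Cfsg.Agent.H11.TgC2
import Cfsg.Agent.H14.TgM2

set_option autoImplicit false

universe u

/-! S1904: all the landed pieces of the team proof plugged into the assembly (helper17). -/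

namespace Cfsg.Agent.H17.TgAll

open Cfsg Cfsg.Agent.H17.Tg

theorem centP : StCent.{u} := Cfsg.Agent.H73.Tg.cent Cfsg.Agent.H65.Tg.idx2
theorem vbP : StVB.{u} :=
  Cfsg.Agent.H65.Tg.vb centP (Cfsg.Agent.H73.Tg.l11 centP) Cfsg.Agent.H36.Tg.four
theorem sqP : StSq.{u} := Cfsg.Agent.H98.Tg.sq (Cfsg.Agent.H98.Tg.layer vbP) vbP
theorem q0aP : StQ0a.{u} := Cfsg.Agent.H24.Tg.q0a vbP sqP Cfsg.Agent.H39.Tg.q0grp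
theorem q0bP : StQ0b.{u} := Cfsg.Agent.H24.Tg.q0b sqP
theorem selfP : StSelf.{u} := Cfsg.Agent.H5.Tg.tgSelf Cfsg.Agent.H65.Tg.crit vbP sqP
theorem q0dP : StQ0d.{u} :=
  Cfsg.Agent.H54.Tg.q0d q0aP q0bP vbP sqP selfP Cfsg.Agent.H39.Tg.q0grp
theorem c1P : StC1.{u} := Cfsg.Agent.H11.Tg.c1 vbP
theorem c2P : StC2.{u} := Cfsg.Agent.H11.Tg.c2 vbP Cfsg.Agent.H65.Tg.fix
theorem c3P : StC3.{u} := Cfsg.Agent.H11.Tg.c3 vbP c2P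
theorem m2P : StM2.{u} :=
  Cfsg.Agent.H14.Tg.m2 vbP sqP selfP c1P c2P c3P Cfsg.Agent.H65.Tg.idx2 Cfsg.Agent.H63.Tg.frat
theorem d1QuotP : StD1Quot.{u} := Cfsg.Agent.H72.Tg.d1Quot Cfsg.Agent.H65.Tg.crit
theorem d1ExpTP : StD1ExpT.{u} := Cfsg.Agent.H72.Tg.d1ExpT d1QuotP Cfsg.Agent.H65.Tg.fix
theorem d1ExpNP : StD1ExpN.{u} := Cfsg.Agent.H61.Tg.d1ExpN d1QuotP Cfsg.Agent.H36.Tg.four
theorem d1InvP : StD1Inv.{u} := Cfsg.Agent.H18.Tg.d1Inv d1QuotP d1ExpTP d1ExpNP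
theorem d1CommP : StD1Comm.{u} :=
  Cfsg.Agent.H18.Tg.d1Comm Cfsg.Agent.H65.Tg.fix Cfsg.Agent.H36.Tg.four d1QuotP d1ExpTP d1ExpNP
theorem e64P : StE64.{u} := Cfsg.Agent.H91.Tg.e64 Cfsg.Agent.H39.Tg.inv3

theorem d1all : StD1Main.{u} :=
  d1main d1QuotP d1ExpTP d1ExpNP d1CommP d1InvP Cfsg.Agent.H63.Tg.frat
    Cfsg.Agent.H63.Tg.e16 e64P Cfsg.Agent.H18.Tg.e32 Cfsg.Agent.H40.Tg.e8 Cfsg.Agent.H38.Tg.cw5
    (Cfsg.Agent.H70.Tg.n3 Cfsg.Agent.H65.Tg.idx2) Cfsg.Agent.H70.Tg.n2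

theorem d2all : StD2Main.{u} :=
  d2main m2P (Cfsg.Agent.H35.Tg.qex1 sqP)
    (Cfsg.Agent.H7.Tg.qex2 vbP sqP c2P c3P Cfsg.Agent.H65.Tg.idx2) q0dP
    Cfsg.Agent.H65.Tg.crit

end Cfsg.Agent.H17.TgAll
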